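import Cfsg.Agent.H557.LrData
import Cfsg.Agent.H557.LrNF
import Cfsg.Agent.H557.ToralTypes
import Cfsg.Agent.H974.ExcERow

/-!
# The involutions of `E₆(F)`, `F` finite of odd order, are conjugate into the torus (helper318, for S1918)
-/

set_option autoImplicit false
set_option linter.unusedSectionVars false

namespace Cfsg.Agent.H318.Four.E6Tor

open CoxeterSystem Cfsg.Agent.ChevalleyStructure.CoxeterGeom Cfsg.Agent.Tits.Roots Cfsg.Agent.Tits.Core
  Cfsg.Agent.Tits.RootComb Cfsg.Agent.Tits.Exchange Cfsg.Agent.Nodes.Reps Cfsg.Agent.Nodes.BNOf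
  Cfsg.Agent.Nodes.StabComb Cfsg.Agent.Nodes.Bruhat Cfsg.Agent.Nodes.OppDec Cfsg.Agent.Nodes.RGDLib
  Cfsg.Agent.UGT.U2.FOne
open Cfsg Cfsg.Lie Cfsg.Agent.ChevalleyStructure.CoxeterGeomTypes Cfsg.Agent.Nodes.RGDChev
open Cfsg.Agent.KFacts.RgdChevCoord (TT XX)
open Cfsg.Agent.H557 Cfsg.Agent.H557.LrSgn Cfsg.Agent.H557.LrTor Cfsg.Agent.H557.LrOrb Cfsg.Agent.H557.LrIso
  Cfsg.Agent.H557.LrNF Cfsg.Agent.H557.LrData
open Cfsg.Agent.H974.Exc (sym_E6 sym_E7 sym_E8 J_E6 J_E6' J_E7 J_E8 fix_of_id map_of_graph s6)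

variable (K : Type) [Field K] [Fintype K]

/-- the involutions of `E₆(F)` are toral -/
theorem toral_E6 (ho : Odd (Fintype.card K)) {t : ↥(chevE6.group K)} (htt : t * t = 1) :
    ∃ g, g * t * g⁻¹ ∈ TT chevE6 K := by
  by_cases h1 : t = 1
  · exact ⟨1, by rw [h1, one_mul, inv_one, mul_one]; exact Subgroup.one_mem _⟩
  obtain ⟨p, hpp, hpc, hp2⟩ := ToralTypes.exists_char K ho
  have : Fact p.Prime := ⟨hpp⟩
  have hp2' : p ≠ 2 := by
    rintro rfl
    exact (by decide : ¬ Odd 2) hp2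
  have hS : IsSimpleGroup ↥(Lie.chevE6.group K) ∧ ¬ IsMulCommutative ↥(Lie.chevE6.group K) := S1054.result _ (by simp)
  have hs := hS.1
  have hZ := center_eq_bot hS
  obtain ⟨cs, hcs⟩ : ∃ cs, cs = (CoxeterMatrix.E₆).toCoxeterSystem := ⟨_, rfl⟩
  have hW : Finite (CoxeterMatrix.E₆).Group := finite_W isType_E6 cs
  have R := rgd (K := K) isType_E6 cs p
  have hG := G1_eq_top (K := K) isType_E6 cs
  have hGG := KFacts.RgdRigid.GG_eq_top (T := TT chevE6 K) hG
  obtain ⟨k, φ, σ, J, g, N⟩ := exists_nf_inner hp2' R hG hZ htt h1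
  have hT : k⁻¹ * t * k ∈ TT chevE6 K := by
    rcases sym_E6 ⟨σ, σ, N.σσ, N.σσ⟩ (fun i j => FFour.sigma_matrix N.φ_simple i j) with hσ | hσ
    · have hσ' : ∀ i, σ i = i := hσ
      have hJ := J_E6 N hσ'
      exact mem_T_of R hGG fun c hc => fix_of_id N.nx hσ' hJ hc
    · exfalso
      have hσ' : σ = s6 := funext hσ
      have hJ := J_E6' N hσ'
      have hA : ∀ i j, cartanOf chevE6 6 (σ i) (σ j) = cartanOf chevE6 6 i j := by
        rw [hσ']
        decide +kernel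
      have hmap : ∀ c, IsRoot cs isType_E6.isCartan c → cj (k⁻¹ * t * k) (XX chevE6 6 K c) = XX chevE6 6 K (c ∘ σ) :=
        fun c hc => map_of_graph N.nx hA hJ hc
      have hroot : ∀ c, IsRoot cs isType_E6.isCartan c → IsRoot cs isType_E6.isCartan (c ∘ σ) := by
        rintro _ ⟨w, i, rfl⟩
        rw [← H974.Exc.rep_comp N.φ_simple N.σσ hA]
        refine ⟨φ w, σ i, ?_⟩
        congr 1
        funext j
        by_cases hj : j = σ i
        · rw [hj, Function.comp_apply, N.σσ, sr_self, sr_self]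
        · rw [Function.comp_apply, sr_ne hj, sr_ne]
          intro h2
          exact hj (by rw [← h2, N.σσ])
      have h6 := graph_trivial R hGG N.σσ hroot hmap 0
      rw [hσ'] at h6
      exact absurd h6 (by decide)
  have h4 : k⁻¹ * t * k = k⁻¹ * t * k⁻¹⁻¹ := by rw [inv_inv]
  rw [h4] at hT
  exact ⟨_, hT⟩

end Cfsg.Agent.H318.Four.E6Tor
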