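import Cfsg.Agent.H336.LinFour.Def

/-!
# Abelian 2-subgroups of exponent four normalised by `A` have order at most `2 ^ 8` (helper318)
-/

set_option autoImplicit false

namespace Cfsg.Agent.H318.Four.Homo

open Subgroup Cfsg.Agent.H336.LinFour

theorem card_ker_range {R S : Type*} [Group R] [Group S] (f : R →* S) :
    Nat.card R = Nat.card f.ker * Nat.card f.range := by
  rw [Subgroup.card_eq_card_quotient_mul_card_subgroup f.ker, mul_comm,
    Nat.card_congr (QuotientGroup.quotientKerEquivRange f).toEquiv]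

theorem card_ker_map {R S : Type*} [Group R] [Group S] (f : R →* S) (H : Subgroup R) :
    Nat.card H = Nat.card (H ⊓ f.ker : Subgroup R) * Nat.card (H.map f) := by
  have h1 := card_ker_range (f.comp H.subtype)
  have h2 : (f.comp H.subtype).range = H.map f := by
    rw [MonoidHom.range_comp, Subgroup.range_subtype]
  have h3 : (f.comp H.subtype).ker.map H.subtype = H ⊓ f.ker := by
    ext x
    constructor
    · rintro ⟨y, hy, rfl⟩
      exact ⟨y.2, hy⟩
    · rintro ⟨hx, hx'⟩
      exact ⟨⟨x, hx⟩, hx', rfl⟩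
  rw [h2] at h1
  rw [h1, ← h3, ← Nat.card_congr ((f.comp H.subtype).ker.equivMapOfInjective _ H.subtype_injective).toEquiv]

theorem card_sup_mul_inf {R : Type*} [CommGroup R] (H N : Subgroup R) :
    Nat.card (H ⊔ N : Subgroup R) * Nat.card (H ⊓ N : Subgroup R) = Nat.card H * Nat.card N := by
  have h1 := Subgroup.relIndex_mul_relIndex ⊥ N (H ⊔ N) bot_le le_sup_right
  have h2 := Subgroup.relIndex_mul_relIndex ⊥ (H ⊓ N) H bot_le inf_le_left
  rw [Subgroup.relIndex_sup_right, Subgroup.relIndex_bot_left, Subgroup.relIndex_bot_left] at h1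
  rw [Subgroup.inf_relIndex_left, Subgroup.relIndex_bot_left, Subgroup.relIndex_bot_left] at h2
  rw [← h1, ← h2]; ring

/-- an involutory automorphism of an abelian group of exponent four -/
theorem card_le_sq {R : Type*} [CommGroup R] [Finite R] (h4 : ∀ r : R, r ^ 4 = 1) (θ : R →* R)
    (hθ : ∀ r, θ (θ r) = r) : Nat.card R ≤ Nat.card (θ / MonoidHom.id R).ker ^ 2 := by
  set f : R →* R := θ / MonoidHom.id R with hf
  set g : R →* R := θ * MonoidHom.id R with hg
  have hfa : ∀ r, f r = θ r / r := fun r => rfl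
  have hga : ∀ r, g r = θ r * r := fun r => rfl
  let s : R →* R := powMonoidHom 2
  have hs : ∀ r, s r = r ^ 2 := fun r => rfl
  have hker : ∀ r, r ∈ f.ker ↔ θ r = r := fun r => by
    rw [MonoidHom.mem_ker, hfa, div_eq_one]
  -- the squares
  have h1 : f.range.map s = g.range.map s := by
    rw [← MonoidHom.range_comp, ← MonoidHom.range_comp]
    congr 1
    ext r
    change (θ r / r) ^ 2 = (θ r * r) ^ 2
    rw [div_pow, mul_pow, div_eq_iff_eq_mul, mul_assoc, ← pow_add, h4, mul_one]
  have hN : g.range ≤ f.ker := by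
    rintro _ ⟨r, rfl⟩
    rw [hker, hga, map_mul, hθ, mul_comm]
  have hI : f.range ⊓ s.ker ≤ f.ker := by
    rintro _ ⟨⟨r, rfl⟩, h2⟩
    replace h2 : f r ∈ s.ker := h2
    rw [MonoidHom.mem_ker, hs] at h2
    rw [hker, hfa, map_div, hθ, ← inv_div]
    rw [inv_eq_iff_mul_eq_one, ← pow_two]
    exact h2
  have e1 := card_ker_map s f.range
  have e2 := card_ker_map s g.range
  have e3 := card_sup_mul_inf g.range (f.range ⊓ s.ker)
  have e4 : Nat.card (g.range ⊔ f.range ⊓ s.ker : Subgroup R) ≤ Nat.card f.ker :=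
    Subgroup.card_le_of_le (sup_le hN hI)
  have e5 : Nat.card (g.range ⊓ (f.range ⊓ s.ker) : Subgroup R) ≤ Nat.card (g.range ⊓ s.ker : Subgroup R) :=
    Subgroup.card_le_of_le (inf_le_inf le_rfl inf_le_right)
  have e6 : 0 < Nat.card (g.range ⊓ (f.range ⊓ s.ker) : Subgroup R) := Nat.card_pos
  have e7 : Nat.card f.range ≤ Nat.card f.ker := by
    refine le_trans ?_ e4
    rw [e1, h1]
    refine Nat.le_of_mul_le_mul_right ?_ e6
    rw [e3, e2]
    calc Nat.card ↥(f.range ⊓ s.ker) * Nat.card ↥(Subgroup.map s g.range) * Nat.card ↥(g.range ⊓ (f.range ⊓ s.ker))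
        ≤ Nat.card ↥(f.range ⊓ s.ker) * Nat.card ↥(Subgroup.map s g.range) * Nat.card (g.range ⊓ s.ker : Subgroup R) :=
          Nat.mul_le_mul_left _ e5
      _ = _ := by ring
  rw [card_ker_range f, pow_two]
  exact Nat.mul_le_mul_left _ e7

/-- an involution normalising an abelian subgroup of exponent four -/
theorem card_le_centralizer_sq {K : Type*} [Group K] (R : Subgroup K) [Finite R]
    (hc : ∀ a ∈ R, ∀ b ∈ R, a * b = b * a) (h4 : ∀ a ∈ R, a ^ 4 = 1) {x : K} (hx : x * x = 1)
    (hn : ∀ a ∈ R, x * a * x⁻¹ ∈ R) : Nat.card R ≤ Nat.card (R ⊓ centralizer {x} : Subgroup K) ^ 2 := by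
  let _ : CommGroup R := { (inferInstance : Group R) with mul_comm := fun a b => Subtype.ext (hc a a.2 b b.2) }
  let θ : R →* R :=
    { toFun := fun a => ⟨x * a * x⁻¹, hn a a.2⟩
      map_one' := Subtype.ext (by simp)
      map_mul' := fun a b => Subtype.ext (by simp [mul_assoc]) }
  have hθ : ∀ r, θ (θ r) = r := fun r => Subtype.ext (by
    change x * (x * r * x⁻¹) * x⁻¹ = r
    calc x * (x * (r : K) * x⁻¹) * x⁻¹ = (x * x) * r * (x * x)⁻¹ := by group
      _ = r := by rw [hx]; simp)
  have h1 := card_le_sq (R := R) (fun r => Subtype.ext (h4 r r.2)) θ hθ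
  refine h1.trans (Nat.pow_le_pow_left ?_ 2)
  rw [Nat.card_congr ((θ / MonoidHom.id R).ker.equivMapOfInjective R.subtype R.subtype_injective).toEquiv]
  have : Finite ↥(R ⊓ centralizer {x} : Subgroup K) :=
    Finite.of_injective (inclusion (inf_le_left : R ⊓ centralizer {x} ≤ R)) (inclusion_injective _)
  refine Subgroup.card_le_of_le ?_
  rintro _ ⟨a, ha, rfl⟩
  refine ⟨a.2, ?_⟩
  rw [SetLike.mem_coe, MonoidHom.mem_ker, MonoidHom.div_apply, div_eq_one] at ha
  have h2 : x * a * x⁻¹ = a := congrArg Subtype.val ha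
  change (a : K) ∈ centralizer {x}
  rw [mem_centralizer_singleton_iff]
  exact (mul_inv_eq_iff_eq_mul.1 h2).symm

section

variable {K : Type*} [Group K] {th : V → K} {O K0 : Subgroup K}

/-- the centraliser in `R` of a subgroup of `A` -/
def RC (th : V → K) (R : Subgroup K) (U : AddSubgroup V) : Subgroup K where
  carrier := {r | r ∈ R ∧ ∀ u ∈ U, r * th u = th u * r}
  one_mem' := ⟨R.one_mem, fun u _ => by rw [one_mul, mul_one]⟩
  mul_mem' := by
    rintro a b ⟨ha, ha'⟩ ⟨hb, hb'⟩
    exact ⟨R.mul_mem ha hb, fun u hu => by rw [mul_assoc, hb' u hu, ← mul_assoc, ha' u hu, mul_assoc]⟩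
  inv_mem' := by
    rintro a ⟨ha, ha'⟩
    exact ⟨R.inv_mem ha, fun u hu => by
      rw [inv_mul_eq_iff_eq_mul, ← mul_assoc, ha' u hu, mul_inv_cancel_right]⟩

theorem mem_RC {R : Subgroup K} {U : AddSubgroup V} {r : K} :
    r ∈ RC th R U ↔ r ∈ R ∧ ∀ u ∈ U, r * th u = th u * r := Iff.rfl

theorem index_bound (h : Sit th O K0) (R : Subgroup K) [Finite R]
    (hc : ∀ a ∈ R, ∀ b ∈ R, a * b = b * a) (h4 : ∀ a ∈ R, a ^ 4 = 1)
    (hn : ∀ v, ∀ a ∈ R, th v * a * (th v)⁻¹ ∈ R) :
    ∀ (n : ℕ) (U : AddSubgroup V), U.index = n → Nat.card (RC th R U) ≤ Nat.card (RC th R ⊤) ^ n := by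
  intro n
  induction n using Nat.strong_induction_on with
  | _ n ih =>
    intro U hU
    by_cases hT : U = ⊤
    · subst hT
      rw [AddSubgroup.index_top] at hU
      rw [← hU, pow_one]
    obtain ⟨x, -, hx⟩ := SetLike.exists_of_lt (lt_top_iff_ne_top.2 hT)
    let U' : AddSubgroup V :=
      { carrier := {v | v ∈ U ∨ v + x ∈ U}
        zero_mem' := Or.inl U.zero_mem
        add_mem' := by
          rintro a b (ha | ha) (hb | hb)
          · exact Or.inl (U.add_mem ha hb)
          · right
            rw [add_assoc]; exact U.add_mem ha hb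
          · right
            have := U.add_mem ha hb
            rwa [add_right_comm] at this
          · left
            have := U.add_mem ha hb
            have e : a + x + (b + x) = a + b + x + x := by abel
            rwa [e, add_add_self] at this
        neg_mem' := by
          intro a ha
          rw [v_neg]; exact ha }
    have hUU' : U ≤ U' := fun u hu => Or.inl hu
    have hxU' : x ∈ U' := Or.inr (by rw [v_add_self]; exact U.zero_mem)
    have hrel : U.relIndex U' = 2 := by
      rw [AddSubgroup.relIndex_eq_two_iff]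
      refine ⟨x, hxU', ?_⟩
      intro b hb
      rcases hb with hb | hb
      · right
        refine ⟨hb, fun h1 => hx ?_⟩
        have := U.add_mem hb h1
        rwa [self_add_add] at this
      · left
        refine ⟨hb, fun h1 => hx ?_⟩
        have := U.add_mem h1 hb
        rwa [self_add_add] at this
    have hidx : U.index = 2 * U'.index := by
      rw [← AddSubgroup.relIndex_mul_index hUU', hrel]
    have hpos : 0 < U'.index := Nat.pos_of_ne_zero AddSubgroup.index_ne_zero_of_finite
    have h1 := ih U'.index (by omega) U' rfl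
    have hle : RC th R U ≤ R := fun r hr => hr.1
    have : Finite (RC th R U) := Finite.of_injective (inclusion hle) (inclusion_injective _)
    have h2 := card_le_centralizer_sq (RC th R U) (fun a ha b hb => hc a ha.1 b hb.1) (fun a ha => h4 a ha.1)
      (h.sq x) (by
        intro a ha
        refine ⟨hn x a ha.1, fun u hu => ?_⟩
        have e1 := ha.2 u hu
        have e2 := h.comm x u
        calc th x * a * (th x)⁻¹ * th u = th x * a * ((th x)⁻¹ * th u) := by group
          _ = th x * a * (th u * (th x)⁻¹) := by rw [h.inv, e2]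
          _ = th x * (a * th u) * (th x)⁻¹ := by group
          _ = th x * (th u * a) * (th x)⁻¹ := by rw [e1]
          _ = (th x * th u) * a * (th x)⁻¹ := by group
          _ = _ := by rw [e2]; group)
    have h3 : (RC th R U ⊓ centralizer {th x} : Subgroup K) = RC th R U' := by
      ext r
      rw [mem_inf, mem_centralizer_singleton_iff, mem_RC, mem_RC]
      constructor
      · rintro ⟨⟨hr, hr'⟩, hrx⟩
        refine ⟨hr, ?_⟩
        rintro u (hu | hu)
        · exact hr' u hu
        · have e : u = (u + x) + x := (add_add_self _ _).symm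
          rw [e, h.add, ← mul_assoc, hr' _ hu, mul_assoc, hrx, mul_assoc]
      · rintro ⟨hr, hr'⟩
        exact ⟨⟨hr, fun u hu => hr' u (hUU' hu)⟩, hr' x hxU'⟩
    rw [h3] at h2
    calc Nat.card (RC th R U) ≤ Nat.card (RC th R U') ^ 2 := h2
      _ ≤ (Nat.card (RC th R ⊤) ^ U'.index) ^ 2 := Nat.pow_le_pow_left h1 2
      _ = Nat.card (RC th R ⊤) ^ n := by rw [← pow_mul, ← hU, hidx, mul_comm]

/-- **Abelian subgroups of exponent dividing four normalised by `A` have order at most `2 ^ 8`.** -/
theorem card_le (h : Sit th O K0) (R : Subgroup K) [Finite R]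
    (hc : ∀ a ∈ R, ∀ b ∈ R, a * b = b * a) (h4 : ∀ a ∈ R, a ^ 4 = 1)
    (hn : ∀ v, ∀ a ∈ R, th v * a * (th v)⁻¹ ∈ R) : Nat.card R ≤ 2 ^ 8 := by
  classical
  let U : AddSubgroup V :=
    { carrier := {v | th v ∈ R}
      zero_mem' := by change th 0 ∈ R; rw [h.zero]; exact R.one_mem
      add_mem' := fun {u v} hu hv => by change th (u + v) ∈ R; rw [h.add]; exact R.mul_mem hu hv
      neg_mem' := fun {u} hu => by change th (-u) ∈ R; rw [v_neg]; exact hu }
  have h1 : RC th R U = R := by
    ext r
    rw [mem_RC]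
    exact ⟨fun hr => hr.1, fun hr => ⟨hr, fun u hu => hc r hr _ hu⟩⟩
  have h2 : Nat.card (RC th R ⊤) ≤ Nat.card U := by
    have h3 : ∀ r ∈ RC th R ⊤, ∃ u ∈ U, th u = r := by
      intro r hr
      obtain ⟨u, hu⟩ := h.mem_of_sq (x := r) (fun v => hr.2 v trivial) (n := 2) (h4 r hr.1)
      exact ⟨u, by change th u ∈ R; rw [hu]; exact hr.1, hu⟩
    choose f hf hf' using h3
    refine Nat.card_le_card_of_injective (fun r : RC th R ⊤ => (⟨f r r.2, hf r r.2⟩ : U)) ?_
    intro r s hrs
    have h4 : f r r.2 = f s s.2 := congrArg Subtype.val hrs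
    apply Subtype.ext
    rw [← hf' r r.2, h4, hf' s s.2]
  have h3 := index_bound h R hc h4 hn U.index U rfl
  rw [h1] at h3
  have h5 := U.card_mul_index
  have h6 : Nat.card V = 16 := by simp [V]
  rw [h6] at h5
  have h7 : Nat.card R ≤ Nat.card U ^ U.index := h3.trans (Nat.pow_le_pow_left h2 _)
  refine h7.trans ?_
  have h8 : Nat.card U ∣ 16 := ⟨_, h5.symm⟩
  have h9 : Nat.card U ∈ Nat.divisors 16 := Nat.mem_divisors.2 ⟨h8, by norm_num⟩
  have h10 : Nat.divisors 16 = {1, 2, 4, 8, 16} := by decide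
  rw [h10] at h9
  simp only [Finset.mem_insert, Finset.mem_singleton] at h9
  rcases h9 with e | e | e | e | e
  · rw [e, one_pow]; norm_num
  · rw [e] at h5 ⊢
    have : U.index = 8 := by omega
    rw [this]
  · rw [e] at h5 ⊢
    have : U.index = 4 := by omega
    rw [this]; norm_num
  · rw [e] at h5 ⊢
    have : U.index = 2 := by omega
    rw [this]; norm_num
  · rw [e] at h5 ⊢
    have : U.index = 1 := by omega
    rw [this]; norm_num

end

end Cfsg.Agent.H318.Four.Homo
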