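import Cfsg.Agent.H336.LinFour.Basic

/-!
# Lifting a `Sit` along a surjective homomorphism with a central kernel of exponent `3` (helper318, for S1918)
-/

set_option autoImplicit false

namespace Cfsg.Agent.H318.Four.Lift

open Subgroup Cfsg.Agent.H336.LinFour

variable {L K : Type*} [Group L] [Group K] (π : L →* K)

/-- the kernel is central of exponent `3` -/
def Ker3 : Prop := ∀ z, π z = 1 → (∀ x, x * z = z * x) ∧ z ^ 3 = 1

variable {π}

theorem eq_one_of {z : L} (hk : Ker3 π) (hz : π z = 1) (h2 : z * z = 1) : z = 1 := by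
  have h3 := (hk z hz).2
  rwa [pow_succ, pow_two, h2, one_mul] at h3

/-- involutions have unique lifts of order two -/
theorem unique (hk : Ker3 π) {s t : L} (hs : s * s = 1) (ht : t * t = 1) (h : π s = π t) : s = t := by
  have hz : π (s⁻¹ * t) = 1 := by rw [map_mul, map_inv, h, inv_mul_cancel]
  have hc := (hk _ hz).1
  have h1 : (s⁻¹ * t) * (s⁻¹ * t) = 1 := by
    have h2 := hc s
    have h3 : t = s * (s⁻¹ * t) := by group
    have h4 : t * t = (s * s) * ((s⁻¹ * t) * (s⁻¹ * t)) := by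
      calc t * t = (s * (s⁻¹ * t)) * (s * (s⁻¹ * t)) := by rw [← h3]
        _ = s * ((s⁻¹ * t) * s) * (s⁻¹ * t) := by simp only [mul_assoc]
        _ = s * (s * (s⁻¹ * t)) * (s⁻¹ * t) := by rw [h2]
        _ = _ := by simp only [mul_assoc]
    rw [ht, hs, one_mul] at h4
    exact h4.symm
  have h5 := eq_one_of hk hz h1
  rw [inv_mul_eq_one] at h5
  exact h5

theorem exists_lift (hk : Ker3 π) (hsurj : Function.Surjective π) {x : K} (hx : x * x = 1) :
    ∃ s : L, s * s = 1 ∧ π s = x := by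
  obtain ⟨y, rfl⟩ := hsurj x
  have h1 : π (y * y) = 1 := by rw [map_mul, hx]
  have h2 := (hk _ h1).2
  refine ⟨y ^ 3, ?_, ?_⟩
  · calc y ^ 3 * y ^ 3 = (y * y) ^ 3 := ((Commute.refl y).mul_pow 3).symm
      _ = 1 := h2
  · rw [map_pow, pow_succ, pow_two, hx, one_mul]

/-- **lifting a `Sit`** -/
theorem exists_sit [Finite L] (hk : Ker3 π) (hsurj : Function.Surjective π) {th : V → K} {O K0 : Subgroup K}
    (h : Sit th O K0) :
    ∃ th' : V → L, Sit th' (O.comap π) (K0.comap π) ∧ ∀ v, π (th' v) = th v := by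
  choose th' hsq hth using fun v => exists_lift hk hsurj (h.sq v)
  refine ⟨th', ?_, hth⟩
  -- conjugates
  have hconj : ∀ (k : L) (u v : V), π k * th u * (π k)⁻¹ = th v → k * th' u * k⁻¹ = th' v := by
    intro k u v hkuv
    refine unique hk ?_ (hsq v) ?_
    · rw [show k * th' u * k⁻¹ * (k * th' u * k⁻¹) = k * (th' u * th' u) * k⁻¹ by group, hsq, mul_one, mul_inv_cancel]
    · rw [map_mul, map_mul, map_inv, hth, hth, hkuv]
  have hconj' : ∀ (k : L) (u v : V), k * th' u * k⁻¹ = th' v → π k * th u * (π k)⁻¹ = th v := by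
    intro k u v hkuv
    rw [← hth, ← hth v, ← hkuv, map_mul, map_mul, map_inv]
  have hcomm : ∀ (k : L) (v : V), π k * th v = th v * π k ↔ k * th' v = th' v * k := by
    intro k v
    constructor
    · intro hkv
      have := hconj k v v (mul_inv_eq_iff_eq_mul.2 hkv)
      exact mul_inv_eq_iff_eq_mul.1 this
    · intro hkv
      have := hconj' k v v (mul_inv_eq_iff_eq_mul.2 hkv)
      exact mul_inv_eq_iff_eq_mul.1 this
  refine ⟨?_, ?_, ?_, ?_, ?_, ?_, ?_, ?_, ?_, ?_⟩
  · intro u v
    refine unique hk (hsq _) ?_ ?_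
    · have h1 : th' u * th' v = th' v * th' u := (hcomm (th' u) v).1 (by rw [hth]; exact h.comm u v)
      calc th' u * th' v * (th' u * th' v) = th' u * th' v * (th' v * th' u) := by rw [← h1]
        _ = th' u * (th' v * th' v) * th' u := by simp only [mul_assoc]
        _ = 1 := by rw [hsq, mul_one, hsq]
    · rw [map_mul, hth, hth, hth, h.add]
  · intro u v huv
    apply h.inj
    rw [← hth, ← hth, huv]
  · rw [← Nat.not_even_iff_odd, even_iff_two_dvd]
    intro h2
    have : Fact (Nat.Prime 2) := ⟨Nat.prime_two⟩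
    obtain ⟨x, hx⟩ := exists_prime_orderOf_dvd_card' 2 h2
    have hx2 : (x : L) * x = 1 := by
      have := pow_orderOf_eq_one x
      rw [hx, pow_two] at this
      exact congrArg Subtype.val this
    have hxO : π x ∈ O := x.2
    have h3 : (⟨π x, hxO⟩ : O) ^ 2 = 1 := Subtype.ext (by
      show π x ^ 2 = 1
      rw [pow_two, ← map_mul, hx2, map_one])
    have h4 := orderOf_dvd_of_pow_eq_one h3
    have h5 := orderOf_dvd_natCard (⟨π x, hxO⟩ : O)
    have h6 : orderOf (⟨π x, hxO⟩ : O) = 1 := by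
      have h7 := h.odd
      rcases (Nat.dvd_prime Nat.prime_two).1 h4 with h8 | h8
      · exact h8
      · rw [h8] at h5
        exact absurd (even_iff_two_dvd.2 h5) (Nat.not_even_iff_odd.2 h7)
    have h7 : π x = 1 := congrArg Subtype.val (orderOf_eq_one_iff.1 h6)
    have h8 := eq_one_of hk h7 hx2
    have h9 : x = 1 := Subtype.ext h8
    rw [h9, orderOf_one] at hx
    omega
  · intro x hx v
    exact (hcomm x v).1 (h.oc _ hx v)
  · intro x hx n hn
    show π (n * x * n⁻¹) ∈ O
    rw [map_mul, map_mul, map_inv]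
    refine h.oN _ hx _ fun v => ?_
    obtain ⟨u, hu⟩ := hn v
    exact ⟨u, hconj' n v u hu⟩
  · intro x hx
    obtain ⟨o, ho, v, hov⟩ := h.cent (π x) fun v => (hcomm x v).2 (hx v)
    refine ⟨x * (th' v)⁻¹, ?_, v, by rw [inv_mul_cancel_right]⟩
    show π (x * (th' v)⁻¹) ∈ O
    rw [map_mul, map_inv, hth, hov, mul_inv_cancel_right]
    exact ho
  · intro k hk' v
    obtain ⟨u, hu⟩ := h.k0 (π k) hk' v
    exact ⟨u, hconj k v u hu⟩
  · exact comap_mono h.le
  · intro k hk' hkc
    exact h.k0c _ hk' fun v => (hcomm k v).2 (hkc v)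
  · intro g
    obtain ⟨k, hk1, hk2⟩ := h.full g
    obtain ⟨k', rfl⟩ := hsurj k
    exact ⟨k', hk1, fun v => hconj k' v (g v) (hk2 v)⟩

end Cfsg.Agent.H318.Four.Lift
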