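import Cfsg.Agent.H336.LinFour.Basic
import Cfsg.Agent.H318.SpSix.RadSit

/-!
# `A` is a radical subgroup; orders of normalisers and centralisers (helper318)
-/

set_option autoImplicit false

namespace Cfsg.Agent.H318.Four.Rad

open Subgroup Cfsg Cfsg.Agent.H336.LinFour Cfsg.Agent.H318.SpSix.Radical Cfsg.Agent.KFacts.RgdLieCharP
  Cfsg.Agent.H318.SpSix.TwoPart

variable {K : Type*} [Group K] {th : V → K} {O K0 : Subgroup K}

theorem exists_ne : ∃ v : V, v ≠ 0 := ⟨Pi.single 0 1, fun h => by
  have := congrFun h 0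
  simp at this⟩

theorem A_ne_bot (h : Sit th O K0) : h.A ≠ ⊥ := by
  intro h1
  have h2 := h.card_A
  rw [h1, card_bot] at h2
  exact absurd h2 (by norm_num)

theorem rad [Finite K] (h : Sit th O K0) : Rad 2 h.A := by
  have : Fact (Nat.Prime 2) := ⟨Nat.prime_two⟩
  refine Cfsg.Agent.H318.SpSix.RadSit.rad_of_trans h.isPGroup_A (A_ne_bot h) ?_ ?_
  · rintro _ ⟨u, rfl⟩ hu _ ⟨v, rfl⟩ hv
    obtain ⟨k, hk, hk'⟩ := h.exists_conj (u := u) (v := v) (fun e : u = 0 => hu (by rw [e, h.zero]))
      (fun e : v = 0 => hv (by rw [e, h.zero]))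
    exact ⟨k, h.K0_le hk, hk'⟩
  · intro x hx n hn
    exact h.mem_of_sq (fun v => hx _ ⟨v, rfl⟩) hn

theorem card_ker [Finite K] (h : Sit th O K0) : Nat.card h.rep.ker ∣ Nat.card O * 16 := by
  classical
  let E : Subgroup K := centralizer (h.A : Set K)
  have hO : O ≤ E := fun x hx => by
    rw [mem_centralizer_iff]
    rintro _ ⟨v, rfl⟩
    exact (h.oc x hx v).symm
  have hA : h.A ≤ E := by
    rintro _ ⟨u, rfl⟩
    rw [mem_centralizer_iff]
    rintro _ ⟨v, rfl⟩
    exact h.comm v u
  have hcomm : ∀ (x : O) (y : h.A), Commute (O.subtype x) (h.A.subtype y) := by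
    rintro ⟨x, hx⟩ ⟨_, v, rfl⟩
    exact h.oc x hx v
  let f : O × h.A →* K := MonoidHom.noncommCoprod O.subtype h.A.subtype hcomm
  have hf : ∀ p : O × h.A, f p = p.1 * p.2 := fun p => rfl
  have hr : f.range = E := by
    apply le_antisymm
    · rintro _ ⟨p, rfl⟩
      rw [hf]
      exact mul_mem (hO p.1.2) (hA p.2.2)
    · intro x hx
      obtain ⟨o, ho, v, rfl⟩ := h.cent x fun v => (mem_centralizer_iff.1 hx _ ⟨v, rfl⟩).symm
      exact ⟨(⟨o, ho⟩, ⟨_, h.th_mem v⟩), rfl⟩
  have h1 : Nat.card f.range ∣ Nat.card O * 16 := by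
    have := Subgroup.card_range_dvd f
    rwa [Nat.card_prod, h.card_A] at this
  rw [hr] at h1
  refine dvd_trans ?_ h1
  have h2 : h.rep.ker.map (normalizer (h.A : Set K)).subtype ≤ E := by
    rintro _ ⟨n, hn, rfl⟩
    rw [SetLike.mem_coe, MonoidHom.mem_ker, h.rep_eq_one] at hn
    rw [mem_centralizer_iff]
    rintro _ ⟨v, rfl⟩
    exact (hn v).symm
  have h3 := Subgroup.card_dvd_of_le h2
  rwa [Nat.card_congr (equivMapOfInjective _ _ (subtype_injective _)).toEquiv.symm] at h3

theorem card_normalizer [Finite K] (h : Sit th O K0) :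
    Nat.card (normalizer (h.A : Set K)) ∣ 2 ^ 10 * (315 * Nat.card O) := by
  have h1 : Nat.card (normalizer (h.A : Set K)) = Nat.card S * Nat.card h.rep.ker := by
    rw [← Nat.card_congr (QuotientGroup.quotientKerEquivOfSurjective _ h.rep_surjective).toEquiv,
      ← Subgroup.card_eq_card_quotient_mul_card_subgroup]
  rw [h1, card_S]
  refine (Nat.mul_dvd_mul_left _ (card_ker h)).trans ?_
  rw [show 20160 * (Nat.card O * 16) = 2 ^ 10 * (315 * Nat.card O) by ring]

/-- **The 2-part of the order of `K`.** -/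
theorem two_part_eq [Finite K] [IsSimpleGroup K] (hK : IsLieFilt 2 K) (hc : ∃ a b : K, a * b ≠ b * a)
    (h : Sit th O K0) : (Nat.card K).factorization 2 = 10 := by
  have : Fact (Nat.Prime 2) := ⟨Nat.prime_two⟩
  have h1 := normalizer_index (hasFilt_of_lie hK) hc h.isPGroup_A (A_ne_bot h) (rad h)
  have h2 := (normalizer (h.A : Set K)).card_mul_index
  rw [← h2, Nat.factorization_mul Nat.card_pos.ne' index_ne_zero_of_finite, Finsupp.add_apply,
    Nat.factorization_eq_zero_of_not_dvd h1, add_zero]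
  apply le_antisymm
  · have h3 := (Nat.factorization_le_iff_dvd Nat.card_pos.ne'
      (by have := h.odd.pos.ne'; positivity)).2 (card_normalizer h) 2
    refine h3.trans ?_
    have h4 : Odd (315 * Nat.card O) := (show Odd 315 by decide).mul h.odd
    have h5 := fact_of (a := 10) (N := 2 ^ 10 * (315 * Nat.card O)) (m := 315 * Nat.card O) (k := 1) h4 odd_one
      (one_mul _)
    exact h5.le
  · have h3 := (Nat.factorization_le_iff_dvd (by norm_num) Nat.card_pos.ne').2 h.card_dvd_normalizer 2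
    refine le_trans ?_ h3
    have h5 := fact_of (a := 10) (N := 20160 * 16) (m := 315) (k := 1) (by decide) odd_one (by norm_num)
    exact h5.ge

theorem exists_ncomm (h : Sit th O K0) : ∃ a b : K, a * b ≠ b * a := by
  have h1 : ∃ u v : V, u ≠ 0 ∧ v ≠ 0 ∧ u ≠ v := by
    refine ⟨Pi.single 0 1, Pi.single 1 1, ?_, ?_, ?_⟩
    · intro h; have := congrFun h 0; simp at this
    · intro h; have := congrFun h 1; simp at this
    · intro h; have := congrFun h 0; simp at this
  obtain ⟨u, v, hu, hv, huv⟩ := h1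
  obtain ⟨k, -, hk⟩ := h.exists_conj hu hv
  refine ⟨k, th u, fun h1 => ?_⟩
  rw [h1, mul_inv_cancel_right] at hk
  exact huv (h.inj hk)

theorem dvd_card [Finite K] (h : Sit th O K0) {d : ℕ} (hd : d ∣ 20160 * 16) : d ∣ Nat.card K := hd.trans h.card_dvd

/-- the centraliser of an element of `A#` in `N_K(A)` -/
theorem dvd_centralizer [Finite K] (h : Sit th O K0) {v : V} (hv : v ≠ 0) :
    1344 * 16 ∣ Nat.card (centralizer ({th v} : Set K)) := by
  classical
  let N := normalizer (h.A : Set K)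
  letI : MulAction N K := MulAction.compHom K ((MulAut.conj (G := K)).comp N.subtype)
  have hact : ∀ (n : N) (x : K), n • x = n * x * (n : K)⁻¹ := fun _ _ => rfl
  have h1 : MulAction.orbit N (th v) = th '' ({0}ᶜ : Set V) := by
    ext x
    constructor
    · rintro ⟨n, rfl⟩
      obtain ⟨u, hu⟩ := h.mem_normalizer.1 n.2 v
      refine ⟨u, ?_, ?_⟩
      · intro hu0
        rw [Set.mem_singleton_iff] at hu0
        rw [hu0, h.zero, mul_inv_eq_one, mul_eq_left, h.eq_one_iff] at hu
        exact hv hu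
      · exact hu.symm
    · rintro ⟨u, hu, rfl⟩
      obtain ⟨k, hk, hk'⟩ := h.exists_conj hv hu
      exact ⟨⟨k, h.K0_le hk⟩, hk'⟩
  have h2 : (MulAction.stabilizer N (th v)).index = 15 := by
    rw [MulAction.index_stabilizer, h1, Set.ncard_image_of_injective _ h.inj, Set.ncard_compl, Set.ncard_singleton]
    simp [V]
  have h3 := (MulAction.stabilizer N (th v)).card_mul_index
  rw [h2] at h3
  have h4 : 20160 * 16 ∣ Nat.card (MulAction.stabilizer N (th v)) * 15 := by
    rw [h3]; exact h.card_dvd_normalizer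
  have h5 : 1344 * 16 ∣ Nat.card (MulAction.stabilizer N (th v)) := by
    rw [show 20160 * 16 = (1344 * 16) * 15 by norm_num] at h4
    exact Nat.dvd_of_mul_dvd_mul_right (by norm_num) h4
  refine h5.trans ?_
  have h6 : (MulAction.stabilizer N (th v)).map N.subtype ≤ centralizer ({th v} : Set K) := by
    rintro _ ⟨n, hn, rfl⟩
    have h7 : n • th v = th v := hn
    rw [hact, mul_inv_eq_iff_eq_mul] at h7
    exact mem_centralizer_singleton_iff.2 h7
  have h7 := Subgroup.card_dvd_of_le h6
  rwa [Nat.card_congr (equivMapOfInjective _ _ (subtype_injective _)).toEquiv.symm] at h7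

end Cfsg.Agent.H318.Four.Rad
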