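import Cfsg.Agent.H318.Four.E6Inv
import Cfsg.Agent.H318.Four.Lift
import Cfsg.Agent.H511.LinFour.Wt
import Cfsg.Agent.H351.SpSix.Rep
import Cfsg.Agent.H351.SpSix.IdealE

/-!
# No `Sit` of rank four in the groups of type `E₆`, `²E₆` in odd characteristic (helper318, for S1918)

The subgroup lifts to the group acting on the module of dimension `27`. The fifteen nonzero weights of `A` have the
same multiplicity `m`, and an involution has an eigenspace of dimension `8 m` for `-1`: this is `12` or `16` and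
`15 m ≤ 27`.
-/

set_option autoImplicit false

namespace Cfsg.Agent.H318.Four.RowE6

open Cfsg Cfsg.Lie Matrix
open Cfsg.Agent.ChevalleyStructure.E6Min Cfsg.Agent.ChevalleyStructure.E6Min.Tables
  Cfsg.Agent.ChevalleyStructure.E6Min.Basic Cfsg.Agent.ChevalleyStructure.E6Min.Forms
  Cfsg.Agent.ChevalleyStructure.E6Min.Inv Cfsg.Agent.ChevalleyStructure.E6Min.Elim
  Cfsg.Agent.ChevalleyStructure.E6Min.Torus Cfsg.Agent.ChevalleyStructure.E6Min.Adjoint
open Cfsg.Agent.H336.LinFour Cfsg.Agent.H511.LinFour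

/-- the dimension of the fixed space from the rank -/
theorem finrank_fx_rank {K : Type*} [Group K] {th : V → K} {F : Type*} [Field F] {ι : Type*} [Fintype ι]
    [DecidableEq ι] (φ : K →* GL ι F) (v : V) :
    ((φ (th v) : Matrix ι ι F) - 1).rank + Module.finrank F (fx (H351.SpSix.rep φ) th v) =
      Module.finrank F (ι → F) := by
  have h1 : fx (H351.SpSix.rep φ) th v = LinearMap.ker (Matrix.mulVecLin ((φ (th v) : Matrix ι ι F) - 1)) := by
    ext w
    rw [mem_fx, LinearMap.mem_ker, Matrix.mulVecLin_apply, Matrix.sub_mulVec, Matrix.one_mulVec, sub_eq_zero,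
      H351.SpSix.rep_apply]
  rw [h1]
  exact LinearMap.finrank_range_add_finrank_ker _

theorem exists_rel : ∃ m k : I27, rel m k = 2 := ⟨dec 9, dec 18, by decide +kernel⟩

/-- the kernel of the map to the adjoint group is central of exponent `3` -/
theorem ker3 (F : Type*) [Field F] : Lift.Ker3 (ad F) := by
  intro z hz
  have hz' : z ∈ (ad F).ker := hz
  refine ⟨?_, ?_⟩
  · rw [ker_ad, Subgroup.mem_center_iff] at hz'
    exact hz'
  · have h1 := H689.scalar_of_comm (g := ((z : GL I27 F) : Matrix I27 I27 F))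
      fun r hr => comm_B_of_ker hz (Sum.inr ⟨r, hr⟩)
    obtain ⟨c, hc⟩ : ∃ c : F, c = ((z : GL I27 F) : Matrix I27 I27 F) (dec 0) (dec 0) := ⟨_, rfl⟩
    rw [← hc] at h1
    have he : ∀ x, ((z : GL I27 F) : Matrix I27 I27 F) *ᵥ e F x = c • e F x := by
      intro x
      rw [h1]
      funext y
      rw [Matrix.mulVec_diagonal, Pi.smul_apply, smul_eq_mul]
    obtain ⟨m, k, hmk⟩ := exists_rel
    have h2 := diag_rel (d := fun _ => c) (Zgrp_le F z.2) he hmk
    apply Subtype.ext
    apply Units.ext
    have h3 : ((z ^ 3 : Zgrp F) : GL I27 F) = (z : GL I27 F) ^ 3 := rfl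
    rw [h3, Units.val_pow_eq_pow_val, h1, Matrix.diagonal_pow]
    have h4 : ((fun _ : I27 => c) ^ 3 : I27 → F) = fun _ => 1 := by
      funext x
      show c ^ 3 = 1
      rw [← h2]; ring
    rw [h4, Matrix.diagonal_one]
    rfl

theorem finrank_27 (F : Type*) [Field F] : Module.finrank F (I27 → F) = 27 := by
  rw [Module.finrank_fintype_fun_eq_card]
  simp [I27]

/-- **no `Sit` in a subgroup of `E6(F)`** -/
theorem main {K : Type*} [Group K] {th : V → K} {O K0 : Subgroup K} (h : Sit th O K0) {F : Type} [Field F]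
    [Fintype F] (ho : Odd (Fintype.card F)) (φ : K →* chevE6.group F) (hφ : Function.Injective φ) : False := by
  classical
  have h2 := H351.SpSix.two_ne_zero_of_odd ho
  let L : Subgroup (Zgrp F) := φ.range.comap (ad F)
  let e := MonoidHom.ofInjective hφ
  let π : L →* K := e.symm.toMonoidHom.comp ((ad F).subgroupComap φ.range)
  have hsurj : Function.Surjective π := by
    intro k
    obtain ⟨x, hx⟩ := (ad F).subgroupComap_surjective_of_surjective φ.range ad_surjective (e k)
    refine ⟨x, ?_⟩
    show e.symm ((ad F).subgroupComap φ.range x) = k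
    rw [hx, MulEquiv.symm_apply_apply]
  have hk1 : ∀ z : L, π z = 1 → ad F z = 1 := by
    intro z hz
    have h3 : (ad F).subgroupComap φ.range z = 1 := by
      apply e.symm.injective
      rw [map_one]
      exact hz
    exact congrArg Subtype.val h3
  have hk : Lift.Ker3 π := by
    intro z hz
    obtain ⟨h3, h4⟩ := ker3 F z (hk1 z hz)
    exact ⟨fun x => Subtype.ext (h3 x), Subtype.ext h4⟩
  have hfin : Finite (GL I27 F) := inferInstance
  obtain ⟨th', hs, hth⟩ := Lift.exists_sit hk hsurj h
  let ψ : L →* GL I27 F := (Zgrp F).subtype.comp L.subtype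
  obtain ⟨u, hu⟩ : ∃ u : V, u ≠ 0 := ⟨Pi.single 0 1, fun hh => by
    have := congrFun hh 0
    rw [Pi.single_eq_same] at this
    exact absurd this (by decide)⟩
  have hdim := finrank_eq (ρ := H351.SpSix.rep ψ) hs h2 hu
  have hfx := finrank_fx (ρ := H351.SpSix.rep ψ) hs h2 hu hu
  have hrk := finrank_fx_rank (th := th') ψ u
  have hpos := finrank_pos (ρ := H351.SpSix.rep ψ) hs h2
    (H351.SpSix.rep_ne_one ψ (fun _ _ hab => Subtype.ext (Subtype.ext hab)) fun hh => hu ((hs.eq_one_iff u).1 hh)) hu
  have hr := E6Inv.rank_inv ho h2 (g := (th' u : Zgrp F)) (congrArg Subtype.val (hs.sq u))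
  have hr' : ((ψ (th' u) : Matrix I27 I27 F) - 1).rank = 0 ∨ ((ψ (th' u) : Matrix I27 I27 F) - 1).rank = 12 ∨
      ((ψ (th' u) : Matrix I27 I27 F) - 1).rank = 16 := hr
  rw [finrank_27] at hdim hrk
  rcases hr' with hr' | hr' | hr' <;> rw [hr'] at hrk <;> omega

/-- **row `E6`** -/
theorem row_E6 {K : Type*} [Group K] {th : V → K} {O K0 : Subgroup K} (h : Sit th O K0) {F : Type} [Field F]
    [Fintype F] (ho : Odd (Fintype.card F)) (e : K ≃* chevE6.group F) : False :=
  main h ho e.toMonoidHom e.injective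

/-- **row `²E6`** -/
theorem row_2E6 {K : Type*} [Group K] {th : V → K} {O K0 : Subgroup K} (h : Sit th O K0) {F : Type} [Field F]
    [Fintype F] (ho : Odd (Fintype.card F)) {q : ℕ} (e : K ≃* twistedE6 F q) : False := by
  have hle : twistedE6 F q ≤ chevE6.group F := H351.SpSix.genSubgroup_le H351.SpSix.IdealE.lac_E6.inList _
  exact main h ho ((Subgroup.inclusion hle).comp e.toMonoidHom) ((Subgroup.inclusion_injective hle).comp e.injective)

end Cfsg.Agent.H318.Four.RowE6
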