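import Cfsg.Agent.H336.LinFour.Basic
import Cfsg.Agent.H785.SpSL

/-!
# No `Sit` if a 2-central involution is the central involution of a normal `SL₂(q)` of its centraliser (helper318)
-/

set_option autoImplicit false
set_option linter.unusedSectionVars false

namespace Cfsg.Agent.H318.Four.SLTwo

open Subgroup Cfsg.Agent.H336.LinFour
open Cfsg.Agent.Cit.QModSL Cfsg.Agent.Classification.QDW.TypeHom
open Cfsg.Agent.H785.SpSL (sl_center sl_sq ring_unique conj_cases)

local notation "SL2" => Matrix.SpecialLinearGroup (Fin 2)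

variable {F : Type*} [Field F] [Fintype F]

/-- a multiple of a vector -/
def bm (b : Bool) (v : V) : V := if b then v else 0

/-- all inner: a kernel of order greater than 2 -/
theorem exists_ker (hF : Odd (Fintype.card F)) (Φ : V → MulAut (SL2 F)) (hΦ : ∀ u v, Φ (u + v) = Φ u * Φ v)
    (hI : ∀ v, Inn (Φ v)) (a : V) : ∃ c, c ≠ 0 ∧ c ≠ a ∧ Φ c = 1 := by
  classical
  have h0 : Φ 0 = 1 := by
    have := hΦ 0 0
    rw [add_zero] at this
    exact left_eq_mul.mp this
  have hsq : ∀ u, Φ u * Φ u = 1 := fun u => by rw [← hΦ, v_add_self, h0]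
  -- the inner automorphisms
  have hin : ∀ v, ∃ s : SL2 F, (∀ x, Φ v x = s * x * s⁻¹) ∧ (s * s = -1 ∨ s = 1 ∨ s = -1) := by
    intro v
    obtain ⟨s, hs⟩ := hI v
    refine ⟨s, hs, ?_⟩
    have h1 : ∀ x, s * s * x = x * (s * s) := by
      intro x
      have h2 : (Φ v * Φ v) x = x := by rw [hsq]; rfl
      rw [MulAut.mul_apply, hs, hs] at h2
      have h3 : s * (s * x * s⁻¹) * s⁻¹ = s * s * x * (s * s)⁻¹ := by group
      rw [h3] at h2
      exact mul_inv_eq_iff_eq_mul.1 h2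
    rcases sl_center hF h1 with h2 | h2
    · exact Or.inr (sl_sq hF h2)
    · exact Or.inl h2
  have hcs : ∀ v, Φ v ≠ 1 → ∃ s : SL2 F, (∀ x, Φ v x = s * x * s⁻¹) ∧ s * s = -1 := by
    intro v h1
    obtain ⟨s, hs, h2⟩ := hin v
    refine ⟨s, hs, h2.resolve_right ?_⟩
    rintro (rfl | rfl)
    · exact h1 (MulEquiv.ext fun x => by rw [hs]; simp)
    · exact h1 (MulEquiv.ext fun x => by
        rw [hs]
        rw [neg_one_mul, neg_mul]
        show -(x * (-1)⁻¹) = x
        rw [show ((-1 : SL2 F))⁻¹ = -1 by rw [inv_eq_iff_mul_eq_one]; simp]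
        simp)
  obtain ⟨x, y, hxy⟩ : ∃ x y : V, ∀ v, ∃ b c : Bool, Φ (v + bm b x + bm c y) = 1 := by
    by_cases h1 : ∀ v, Φ v = 1
    · exact ⟨0, 0, fun v => ⟨false, false, by simp only [bm, if_neg Bool.false_ne_true, add_zero]; exact h1 v⟩⟩
    push Not at h1
    obtain ⟨x, hx2⟩ := h1
    obtain ⟨s, hs, hs2⟩ := hcs x hx2
    -- the commuting case
    have key : ∀ v, (∃ t : SL2 F, (∀ z, Φ v z = t * z * t⁻¹) ∧ (t * t = -1 ∨ t = 1 ∨ t = -1) ∧ s * t = t * s) →
        ∃ b : Bool, Φ (v + bm b x) = 1 := by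
      rintro v ⟨t, ht1, ht2, ht3⟩
      rcases conj_cases hF hs2 ht2 ht3 with h2 | h2
      · refine ⟨false, ?_⟩
        rw [bm, if_neg (by simp), add_zero]
        exact MulEquiv.ext fun z => by rw [ht1, h2]; rfl
      · refine ⟨true, ?_⟩
        rw [bm, if_pos rfl, hΦ]
        have h3 : Φ v = Φ x := MulEquiv.ext fun z => by rw [ht1, h2, hs]
        rw [h3, hsq]
    by_cases h2 : ∀ v, ∀ t : SL2 F, (∀ z, Φ v z = t * z * t⁻¹) → s * t = t * s
    · refine ⟨x, 0, fun v => ?_⟩
      obtain ⟨t, ht1, ht2⟩ := hin v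
      obtain ⟨b, hb⟩ := key v ⟨t, ht1, ht2, h2 v t ht1⟩
      exact ⟨b, false, by rw [bm, bm, if_neg (by simp : ¬ (false = true)), add_zero]; exact hb⟩
    push Not at h2
    obtain ⟨y, u, hu, hsu⟩ := h2
    -- anticommuting elements
    have hanti : ∀ v (t : SL2 F), (∀ z, Φ v z = t * z * t⁻¹) → s * t = t * s ∨ s * t = -1 * (t * s) := by
      intro v t ht
      have h3 : ∀ z, (t⁻¹ * s⁻¹ * t * s) * z = z * (t⁻¹ * s⁻¹ * t * s) := by
        intro z
        have h4 : (Φ v * Φ x) z = (Φ x * Φ v) z := by rw [← hΦ, ← hΦ, add_comm]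
        rw [MulAut.mul_apply, MulAut.mul_apply, hs, hs, ht, ht] at h4
        have h5 : (t⁻¹ * s⁻¹ * t * s) * z * (t⁻¹ * s⁻¹ * t * s)⁻¹ =
            t⁻¹ * s⁻¹ * (t * (s * z * s⁻¹) * t⁻¹) * s * t := by group
        rw [h4] at h5
        have h6 : t⁻¹ * s⁻¹ * (s * (t * z * t⁻¹) * s⁻¹) * s * t = z := by group
        rw [h6] at h5
        exact mul_inv_eq_iff_eq_mul.1 h5
      have h7 : t * s = s * t * (t⁻¹ * s⁻¹ * t * s) := by group
      rcases sl_center hF h3 with h4 | h4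
      · left
        rw [h4, mul_one] at h7
        exact h7.symm
      · right
        rw [h4] at h7
        rw [h7]; simp
    have hsu' := (hanti y u hu).resolve_left hsu
    refine ⟨x, y, fun v => ?_⟩
    obtain ⟨t, ht1, ht2⟩ := hin v
    rcases hanti v t ht1 with h3 | h3
    · obtain ⟨b, hb⟩ := key v ⟨t, ht1, ht2, h3⟩
      exact ⟨b, false, by rw [bm, bm, if_neg (by simp : ¬ (false = true)), add_zero]; exact hb⟩
    · have h4 : ∀ z, Φ (v + y) z = (t * u) * z * (t * u)⁻¹ := by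
        intro z
        rw [hΦ, MulAut.mul_apply, ht1, hu]; group
      have h6 : s * (t * u) = (t * u) * s := by
        calc s * (t * u) = (s * t) * u := by group
          _ = -1 * (t * s) * u := by rw [h3]
          _ = -1 * t * (s * u) := by group
          _ = -1 * t * (-1 * (u * s)) := by rw [hsu']
          _ = (t * u) * s := by simp [mul_assoc]
      -- `t' = ± t u`
      have h7 : (t * u) * (t * u) = -1 ∨ t * u = 1 ∨ t * u = -1 := by
        have h8 : ∀ z, (t * u) * (t * u) * z = z * ((t * u) * (t * u)) := by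
          intro z
          have h9 : (Φ (v + y) * Φ (v + y)) z = z := by rw [hsq]; rfl
          rw [MulAut.mul_apply, h4, h4] at h9
          have h10 : (t * u) * ((t * u) * z * (t * u)⁻¹) * (t * u)⁻¹ = (t * u) * (t * u) * z * ((t * u) * (t * u))⁻¹ := by
            group
          rw [h10] at h9
          exact mul_inv_eq_iff_eq_mul.1 h9
        rcases sl_center hF h8 with h9 | h9
        · exact Or.inr (sl_sq hF h9)
        · exact Or.inl h9
      obtain ⟨b, hb⟩ := key (v + y) ⟨t * u, h4, h7, h6⟩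
      refine ⟨b, true, ?_⟩
      have h8 : v + bm b x + bm true y = v + y + bm b x := by
        rw [bm, bm, if_pos rfl]; abel
      rw [h8]
      exact hb
  -- the code
  have hcode : ∀ v, ∃ c : Bool × Bool, Φ (v + (bm c.1 x + bm c.2 y)) = 1 := by
    intro v
    obtain ⟨b3, b4, h3⟩ := hxy v
    refine ⟨(b3, b4), ?_⟩
    rw [← h3]
    congr 1
    simp only
    abel
  choose code hc using hcode
  obtain ⟨k, -, hk⟩ := Finset.exists_lt_card_fiber_of_mul_lt_card_of_maps_to (s := (Finset.univ : Finset V))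
    (t := (Finset.univ : Finset (Bool × Bool))) (f := code) (n := 3) (fun _ _ => Finset.mem_univ _)
    (by rw [Finset.card_univ, Finset.card_univ]; simp [V])
  obtain ⟨v0, hv0⟩ : (Finset.univ.filter fun v => code v = k).Nonempty := Finset.card_pos.1 (by omega)
  obtain ⟨v1, hv1, hv1'⟩ := Finset.exists_mem_notMem_of_card_lt_card
    (s := ({v0, v0 + a} : Finset V)) (t := Finset.univ.filter fun v => code v = k)
    (lt_of_le_of_lt (Finset.card_le_two) (by omega))
  rw [Finset.mem_filter] at hv0 hv1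
  rw [Finset.mem_insert, Finset.mem_singleton, not_or] at hv1'
  refine ⟨v0 + v1, ?_, ?_, ?_⟩
  · intro h1
    exact hv1'.1 ((add_eq_zero_iff _ _).1 h1).symm
  · intro h1
    apply hv1'.2
    rw [← h1, self_add_add]
  · have h1 := hc v0
    have h2 := hc v1
    rw [hv0.2] at h1
    rw [hv1.2] at h2
    set L := bm k.1 x + bm k.2 y
    have h3 : v0 + v1 = (v0 + L) + (v1 + L) := by
      have h4 : (v0 + L) + (v1 + L) = v0 + v1 + (L + L) := by abel
      rw [h4, v_add_self, add_zero]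
    rw [h3, hΦ, h1, h2, one_mul]

theorem exists_two (a : V) : ∃ u w : V, u ≠ 0 ∧ u ≠ a ∧ w ≠ 0 ∧ w ≠ a ∧ u + w ≠ 0 ∧ u + w ≠ a := by
  classical
  obtain ⟨u, hu, hu'⟩ := Finset.exists_mem_notMem_of_card_lt_card
    (s := ({0, a} : Finset V)) (t := Finset.univ) (lt_of_le_of_lt (Finset.card_le_two) (by
      rw [Finset.card_univ]; simp [V]))
  obtain ⟨w, hw, hw'⟩ := Finset.exists_mem_notMem_of_card_lt_card
    (s := ({0, a, u, u + a} : Finset V)) (t := Finset.univ) (lt_of_le_of_lt (Finset.card_le_four) (by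
      rw [Finset.card_univ]; simp [V]))
  simp only [Finset.mem_insert, Finset.mem_singleton, not_or] at hu' hw'
  refine ⟨u, w, hu'.1, hu'.2, hw'.1, hw'.2.1, fun h => hw'.2.2.1 ((add_eq_zero_iff _ _).1 h).symm, fun h => hw'.2.2.2 ?_⟩
  rw [← h, self_add_add]

/-- an invariant subgroup of index at most two -/
theorem all_of_two {a : V} (ha : a ≠ 0) (W : AddSubgroup V)
    (hW : ∀ c b, dt c a = 0 → dt c b = 0 → ∀ w ∈ W, w + dt c w • b ∈ W)
    (h2 : ∀ u w, u ∉ W → w ∉ W → u + w ∈ W) (v : V) : v ∈ W := by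
  obtain ⟨u, w, hu, hua, hw, hwa, huw, huwa⟩ := exists_two a
  rcases inv_cases ha W hW with h | h | h
  · exfalso
    have h1 : ∀ x, x ∈ W ↔ x = 0 := fun x => by rw [h]; exact AddSubgroup.mem_bot
    have := h2 u w (fun hh => hu ((h1 _).1 hh)) (fun hh => hw ((h1 _).1 hh))
    exact huw ((h1 _).1 this)
  · exfalso
    have := h2 u w (fun hh => ((h _).1 hh).elim hu hua) (fun hh => ((h _).1 hh).elim hw hwa)
    exact ((h _).1 this).elim huw huwa
  · rw [h]; exact AddSubgroup.mem_top v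

/-- the matrix of order four -/
theorem exists_sq : ∃ s : SL2 F, s * s = -1 := by
  refine ⟨⟨!![0, 1; -1, 0], by simp [Matrix.det_fin_two_of]⟩, ?_⟩
  apply Subtype.ext
  change (!![0, 1; -1, 0] * !![0, 1; -1, 0] : Matrix (Fin 2) (Fin 2) F) = -1
  ext i j
  fin_cases i <;> fin_cases j <;> simp [Matrix.mul_apply, Fin.sum_univ_two]

theorem two_ne_of_odd (h : Odd (Fintype.card F)) : (2 : F) ≠ 0 := by
  intro h2
  have h1 : ((Fintype.card F : ℕ) : F) = 0 := Nat.cast_card_eq_zero F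
  obtain ⟨k, hk⟩ := h
  rw [hk, Nat.cast_add, Nat.cast_mul, Nat.cast_two, h2, zero_mul, zero_add, Nat.cast_one] at h1
  exact one_ne_zero h1

/-- **No `Sit` with `φ(-1) ∈ A`, `φ(SL₂(q))` normal in `C(φ(-1))`.** -/
theorem false_of_mem {K : Type*} [Group K] {th : V → K} {O K0 : Subgroup K} (h : Sit th O K0)
    (hF : Odd (Fintype.card F)) (φ : SL2 F →* K) (hi : Function.Injective φ)
    (hn : ∀ g : K, g * φ (-1) = φ (-1) * g → ∀ x ∈ φ.range, g * x * g⁻¹ ∈ φ.range) {a : V} (ha : a ≠ 0)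
    (hφ : φ (-1) = th a) : False := by
  classical
  have h2 : (2 : F) ≠ 0 := two_ne_of_odd hF
  -- the automorphisms
  have hA : ∀ k : K, k * th a = th a * k → ∃ κ : MulAut (SL2 F), ∀ s, φ (κ s) = k * φ s * k⁻¹ := by
    intro k hk
    have h1 : ∀ s, ∃ t, φ t = k * φ s * k⁻¹ := fun s => hn k (by rw [hφ, hk]) _ ⟨s, rfl⟩
    have h3 : ∀ s, ∃ t, φ t = k⁻¹ * φ s * k := fun s => by
      have := hn k⁻¹ (by rw [hφ, inv_mul_eq_iff_eq_mul, ← mul_assoc, hk, mul_inv_cancel_right]) _ ⟨s, rfl⟩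
      rwa [inv_inv] at this
    choose f hf using h1
    choose g hg using h3
    refine ⟨{ toFun := f, invFun := g, left_inv := fun s => hi ?_, right_inv := fun s => hi ?_,
              map_mul' := fun s t => hi ?_ }, hf⟩
    · rw [hg, hf]; group
    · rw [hf, hg]; group
    · rw [hf, map_mul, map_mul, hf, hf]; group
  have hcomm : ∀ v, th v * th a = th a * th v := fun v => h.comm v a
  choose Φ hΦ using fun v => hA (th v) (hcomm v)
  have hΦadd : ∀ u v, Φ (u + v) = Φ u * Φ v := fun u v => MulEquiv.ext fun s => hi (by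
    rw [hΦ, MulAut.mul_apply, hΦ, hΦ, h.add]; group)
  have h0 : Φ 0 = 1 := by
    have := hΦadd 0 0
    rw [add_zero] at this
    exact left_eq_mul.mp this
  have hsq : ∀ u, Φ u * Φ u = 1 := fun u => by rw [← hΦadd, v_add_self, h0]
  have hneg : ∀ u, Φ (-u) = Φ u := fun u => by rw [v_neg]
  -- conjugation
  have hconj : ∀ c b, dt c a = 0 → dt c b = 0 → ∃ κ : MulAut (SL2 F), ∀ w, Φ (w + dt c w • b) = κ * Φ w * κ⁻¹ := by
    intro c b hc hb
    obtain ⟨k, -, hk⟩ := h.exists_tv c b hb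
    have hka : k * th a = th a * k := by
      have := hk a
      rw [hc, zero_smul, add_zero, mul_inv_eq_iff_eq_mul] at this
      exact this
    obtain ⟨κ, hκ⟩ := hA k hka
    refine ⟨κ, fun w => ?_⟩
    rw [eq_mul_inv_iff_mul_eq]
    refine MulEquiv.ext fun s => hi ?_
    rw [MulAut.mul_apply, MulAut.mul_apply, hΦ, hκ, hκ, hΦ, ← hk w]; group
  -- the type
  let W1 : AddSubgroup V :=
    { carrier := {v | typ (Φ v) = 1}
      zero_mem' := by change typ (Φ 0) = 1; rw [h0, map_one]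
      add_mem' := fun {u v} (hu : typ (Φ u) = 1) (hv : typ (Φ v) = 1) => by
        change typ (Φ (u + v)) = 1; rw [hΦadd, map_mul, hu, hv, one_mul]
      neg_mem' := fun {u} hu => by change typ (Φ (-u)) = 1; rw [hneg]; exact hu }
  have hs : ∀ u, typ (Φ u) * typ (Φ u) = 1 := fun u => by rw [← map_mul, hsq, map_one]
  have hW1 : ∀ v, typ (Φ v) = 1 := all_of_two ha W1 (by
    intro c b hc hb w hw
    obtain ⟨κ, hκ⟩ := hconj c b hc hb
    change typ (Φ (w + dt c w • b)) = 1
    replace hw : typ (Φ w) = 1 := hw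
    rw [hκ, map_mul, map_mul, hw, mul_one, ← map_mul, mul_inv_cancel, map_one]) (by
    intro u w hu hw
    change typ (Φ (u + w)) = 1
    rw [hΦadd, map_mul, ring_unique (hs u) (hs w) hu hw, hs])
  have hInn1 : Inn (1 : MulAut (SL2 F)) := ⟨1, fun x => by simp⟩
  have hInnm : ∀ {α β : MulAut (SL2 F)}, Inn α → Inn β → Inn (α * β) := by
    rintro α β ⟨s, hs⟩ ⟨t, ht⟩
    exact ⟨s * t, fun x => by rw [MulAut.mul_apply, ht, hs]; group⟩
  let W2 : AddSubgroup V :=
    { carrier := {v | Inn (Φ v)}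
      zero_mem' := by change Inn (Φ 0); rw [h0]; exact hInn1
      add_mem' := fun {u v} (hu : Inn (Φ u)) (hv : Inn (Φ v)) => by
        change Inn (Φ (u + v)); rw [hΦadd]; exact hInnm hu hv
      neg_mem' := fun {u} hu => by change Inn (Φ (-u)); rw [hneg]; exact hu }
  have hW2 : ∀ v, Inn (Φ v) := all_of_two ha W2 (by
    intro c b hc hb w hw
    obtain ⟨κ, hκ⟩ := hconj c b hc hb
    change Inn (Φ (w + dt c w • b))
    obtain ⟨s, hs⟩ : Inn (Φ w) := hw
    rw [hκ]
    refine ⟨κ s, fun x => ?_⟩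
    have e : κ (κ⁻¹ x) = x := MulAut.apply_inv_self _ _ _
    rw [MulAut.mul_apply, MulAut.mul_apply, hs, map_mul, map_mul, e, map_inv]) (by
    intro u w hu hw
    change Inn (Φ (u + w))
    rw [hΦadd]
    exact inner_mul hF (hW1 u) (hW1 w) hu hw)
  obtain ⟨c, hc0, hca, hc⟩ := exists_ker hF Φ hΦadd hW2 a
  let W3 : AddSubgroup V :=
    { carrier := {v | Φ v = 1}
      zero_mem' := h0
      add_mem' := fun {u v} (hu : Φ u = 1) (hv : Φ v = 1) => by
        change Φ (u + v) = 1; rw [hΦadd, hu, hv, one_mul]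
      neg_mem' := fun {u} hu => by change Φ (-u) = 1; rw [hneg]; exact hu }
  have hW3 : ∀ v, Φ v = 1 := by
    intro v
    have h3 := inv_cases ha W3 (by
      intro c b hc hb w hw
      obtain ⟨κ, hκ⟩ := hconj c b hc hb
      change Φ (w + dt c w • b) = 1
      replace hw : Φ w = 1 := hw
      rw [hκ, hw, mul_one, mul_inv_cancel])
    rcases h3 with h3 | h3 | h3
    · exfalso
      have h4 : c ∈ W3 := hc
      rw [h3, AddSubgroup.mem_bot] at h4
      exact hc0 h4
    · exfalso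
      exact ((h3 c).1 hc).elim hc0 hca
    · have h4 : v ∈ W3 := by rw [h3]; exact AddSubgroup.mem_top v
      exact h4
  obtain ⟨s, hs4⟩ := exists_sq (F := F)
  have hcs : ∀ v, φ s * th v = th v * φ s := by
    intro v
    have h3 := hΦ v s
    rw [hW3 v] at h3
    change φ s = _ at h3
    exact (eq_mul_inv_iff_mul_eq.1 h3)
  have h3 : φ s * φ s = th a := by rw [← map_mul, hs4, hφ]
  obtain ⟨u, hu⟩ := h.mem_of_sq (x := φ s) hcs (n := 2) (by
    change φ s ^ 4 = 1
    rw [show (4 : ℕ) = 2 * 2 from rfl, pow_mul, pow_two (φ s), h3, pow_two, h.sq])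
  rw [← hu, h.sq] at h3
  exact ha ((h.eq_one_iff a).1 h3.symm)

/-- **No `Sit` if `φ(-1)` is 2-central and `φ(SL₂(q))` is normal in `C(φ(-1))`.** -/
theorem false_of_phi {K : Type*} [Group K] [Finite K] {th : V → K} {O K0 : Subgroup K} (h : Sit th O K0)
    (hF : Odd (Fintype.card F)) (φ : SL2 F →* K) (hi : Function.Injective φ)
    (hn : ∀ g : K, g * φ (-1) = φ (-1) * g → ∀ x ∈ φ.range, g * x * g⁻¹ ∈ φ.range)
    (hodd : ¬ 2 ∣ (centralizer ({φ (-1)} : Set K)).index) : False := by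
  have h2 : (2 : F) ≠ 0 := two_ne_of_odd hF
  have hne : (-1 : SL2 F) ≠ 1 := by
    intro h
    have h1 := congrArg (fun s : SL2 F => s.1 0 0) h
    have h3 : (-1 : F) = 1 := by simpa using h1
    apply h2
    linear_combination -h3
  have h1 : φ (-1) ≠ 1 := fun hh => hne (hi (by rw [hh, map_one]))
  have h3 : φ (-1) ^ 2 ^ 1 = 1 := by
    rw [pow_one, pow_two, ← map_mul]
    have : (-1 : SL2 F) * -1 = 1 := by simp
    rw [this, map_one]
  obtain ⟨a, ha⟩ : ∃ a : V, a ≠ 0 := ⟨Pi.single 0 1, fun h => by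
    have := congrFun h 0
    simp at this⟩
  obtain ⟨g, hg⟩ := h.exists_conj_of_odd_index h1 h3 hodd ha
  refine false_of_mem h hF ((MulAut.conj g).toMonoidHom.comp φ) ((MulAut.conj g).injective.comp hi) ?_ ha hg
  rintro k hk _ ⟨s, rfl⟩
  have e1 : ∀ x, ((MulAut.conj g).toMonoidHom.comp φ) x = g * φ x * g⁻¹ := fun x => rfl
  rw [e1] at hk
  rw [e1]
  have h4 := hn (g⁻¹ * k * g) (by
    calc g⁻¹ * k * g * φ (-1) = g⁻¹ * (k * (g * φ (-1) * g⁻¹)) * g := by group
      _ = g⁻¹ * (g * φ (-1) * g⁻¹ * k) * g := by rw [hk]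
      _ = _ := by group) (φ s) ⟨s, rfl⟩
  obtain ⟨t, ht⟩ := h4
  refine ⟨t, ?_⟩
  rw [e1, ht]; group

end Cfsg.Agent.H318.Four.SLTwo
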